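import Cfsg.Agent.H5.ON.Sound

/-!
Kernel checks that matrices over the field with 7 elements move packed vectors to multiples of others.
-/

set_option autoImplicit false

namespace Cfsg.Agent.H37.ONSub

open Cfsg.Agent.H5.ON
open Cfsg.Agent.H45 (force force_eq)

/-- evaluate every element of a list to a literal -/
noncomputable def forceL : List ℕ → (List ℕ → Bool) → Bool
  | [], k => k []
  | x :: xs, k => force x fun a => forceL xs fun as => k (a :: as)

theorem forceL_eq : ∀ (xs : List ℕ) (k : List ℕ → Bool), forceL xs k = k xs := by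
  intro xs
  induction xs with
  | nil => intro k; rfl
  | cons x xs ih => intro k; simp only [forceL, force_eq, ih]

/-- check all values below `n`, counting upwards with literals -/
noncomputable def allBelow : ℕ → ℕ → (ℕ → Bool) → Bool
  | 0, _, _ => true
  | n + 1, i, f => f i && force (i + 1) fun j => allBelow n j f

theorem allBelow_sound : ∀ (n i : ℕ) (f : ℕ → Bool), allBelow n i f = true → ∀ j, j < n → f (i + j) = true := by
  intro n
  induction n with
  | zero => intros; omega
  | succ n ih =>
    intro i f h j hj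
    simp only [allBelow, Bool.and_eq_true, force_eq] at h
    cases j with
    | zero => exact h.1
    | succ j =>
      have := ih (i + 1) f h.2 j (by omega)
      rwa [show i + 1 + j = i + (j + 1) by ring] at this

/-- entry of a table stored in chunks of forty -/
def at2 (T : List (List ℕ)) (i : ℕ) : ℕ := (T.getD (i / 40) []).getD (i % 40) 0

/-- the vector with four bits per entry -/
def vec (d : ℕ) : Fin 45 → ZMod 7 := fun j => (dg d (j : ℕ) : ZMod 7)

/-- `d` times the matrix with packed rows `P` is `c` times `t` -/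
noncomputable def vecStep (M : ℕ) (P : List ℕ) (d c t : ℕ) : Bool :=
  Nat.blt c 7 && lcK P d 0 fun y => force (red M y) fun x => Nat.beq x (red M (c * spr 45 t))

theorem vec_step {g : List ℕ} {d c t : ℕ} (h : vecStep (maskN 45) (toP 45 g) d c t = true) :
    Matrix.vecMul (vec d) (mat 45 g) = (c : ZMod 7) • vec t := by
  simp only [vecStep, lcK_eq, zero_add, force_eq, Bool.and_eq_true, Nat.blt_eq, Nat.beq_eq] at h
  obtain ⟨hc, h⟩ := h
  have hP : toP 45 g = List.ofFn (fun k : Fin 45 => pk 45 (fun j => dg (g.getD (k : ℕ) 0) j % 7)) := by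
    refine List.ext_getElem (by simp [toP]) fun n h1 h2 => ?_
    simp only [toP, List.getElem_map, List.getElem_range, List.getElem_ofFn, spr_eq]
  have hr : c * spr 45 t = pk 45 (fun j => c * (dg t j % 7)) := by
    have := pk_add 45 c (fun j => dg t j % 7) (fun _ => 0)
    rw [pk_zero, add_zero] at this
    rw [spr_eq]
    simpa using this
  rw [hP, lc_ofFn, hr, red_pk, red_pk] at h
  · funext j
    have hj := pk_inj (fun j => (Nat.mod_lt _ (by norm_num : 0 < 7)).trans (by norm_num))
      (fun j => (Nat.mod_lt _ (by norm_num : 0 < 7)).trans (by norm_num)) h (j : ℕ) j.isLt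
    have := congrArg (fun n : ℕ => (n : ZMod 7)) hj
    simp only [ZMod.natCast_mod, Nat.cast_sum, Nat.cast_mul] at this
    simpa [Matrix.vecMul, dotProduct, vec, mat] using this
  · intro j
    have h6 : dg t j % 7 ≤ 6 := Nat.le_of_lt_succ (Nat.mod_lt _ (by norm_num))
    have h6' : c ≤ 6 := Nat.le_of_lt_succ hc
    calc c * (dg t j % 7) ≤ 6 * 6 := Nat.mul_le_mul h6' h6
      _ < 2 ^ 14 := by norm_num
  · intro j
    have : ∑ k : Fin 45, dg d (k : ℕ) * (dg (g.getD (k : ℕ) 0) j % 7) ≤ ∑ _k : Fin 45, 15 * 6 :=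
      Finset.sum_le_sum fun k _ =>
        Nat.mul_le_mul (dg_lt _ _) (Nat.le_of_lt_succ (Nat.mod_lt _ (by norm_num : 0 < 7)))
    simp only [Finset.sum_const, Finset.card_univ, Fintype.card_fin, smul_eq_mul] at this
    omega

/-- lines of the table `V` move under `g` by the table `sg` with multipliers `cs` -/
noncomputable def lineCheck (g : List ℕ) (V sg cs : List (List ℕ)) (n : ℕ) : Bool :=
  forceL (toP 45 g) fun P => force (maskN 45) fun M => allBelow n 0 fun i =>
    force (at2 sg i) fun s => Nat.blt s n && vecStep M P (at2 V i) (at2 cs i) (at2 V s)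

theorem lineCheck_sound {g : List ℕ} {V sg cs : List (List ℕ)} {n : ℕ}
    (h : lineCheck g V sg cs n = true) (i : ℕ) (hi : i < n) :
    at2 sg i < n ∧ Matrix.vecMul (vec (at2 V i)) (mat 45 g) =
      (at2 cs i : ZMod 7) • vec (at2 V (at2 sg i)) := by
  simp only [lineCheck, forceL_eq, force_eq] at h
  have := allBelow_sound _ _ _ h i hi
  simp only [zero_add, Bool.and_eq_true, Nat.blt_eq] at this
  exact ⟨this.1, vec_step this.2⟩

/-- forty-five lines form a basis and the line `s` has full support in it -/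
noncomputable def spanCheck (V : List (List ℕ)) (B Q : List ℕ) (s a n : ℕ) : Bool :=
  (allBelow 45 0 fun k => Nat.blt (B.getD k 0) n && !Nat.beq (dg a k % 7) 0) && Nat.blt s n &&
    Nat.beq B.length 45 &&
      chk [B.map (at2 V), Q] [0, 1] (idG 45) && forceL (toP 45 Q) fun P =>
        vecStep (maskN 45) P (at2 V s) 1 a

theorem spanCheck_sound {V : List (List ℕ)} {B Q : List ℕ} {s a n : ℕ}
    (h : spanCheck V B Q s a n = true) :
    ∃ (b : Fin 45 → Fin n) (t : Fin n) (Qm : Matrix (Fin 45) (Fin 45) (ZMod 7)),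
      Matrix.of (fun k => vec (at2 V (b k : ℕ))) * Qm = 1 ∧
        ∀ k, Matrix.vecMul (vec (at2 V (t : ℕ))) Qm k ≠ 0 := by
  simp only [spanCheck, forceL_eq, Bool.and_eq_true, Nat.blt_eq, Nat.beq_eq] at h
  obtain ⟨⟨⟨⟨hB, hs⟩, hl⟩, hc⟩, hv⟩ := h
  have hb : ∀ k : Fin 45, B.getD (k : ℕ) 0 < n ∧ dg a (k : ℕ) % 7 ≠ 0 := by
    intro k
    have := allBelow_sound _ _ _ hB (k : ℕ) k.isLt
    simp only [zero_add, Bool.and_eq_true, Nat.blt_eq, Bool.not_eq_true'] at this
    exact ⟨this.1, fun e => by rw [e] at this; exact absurd this.2 (by decide)⟩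
  refine ⟨fun k => ⟨B.getD (k : ℕ) 0, (hb k).1⟩, ⟨s, hs⟩, mat 45 Q, ?_, fun k => ?_⟩
  · have h1 := chk_sound hc
    rw [mat_idG] at h1
    rw [← h1]
    have : Matrix.of (fun k : Fin 45 => vec (at2 V (B.getD (k : ℕ) 0))) = mat 45 (B.map (at2 V)) := by
      ext k j
      have hk : (k : ℕ) < B.length := by rw [hl]; exact k.isLt
      simp [mat, vec, List.getD_eq_getElem?_getD, List.getElem?_map, List.getElem?_eq_getElem hk]
    simp only [this]
    simp [ev]
  · rw [vec_step hv, Nat.cast_one, one_smul, vec]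
    intro e
    rw [ZMod.natCast_eq_zero_iff, ← Nat.dvd_iff_mod_eq_zero.symm] at e
    exact (hb k).2 e

end Cfsg.Agent.H37.ONSub
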