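import Cfsg.Agent.H5.ON.Check
import Cfsg.Agent.H37.ONSub.Packed
import Cfsg.Agent.H37.ONSub.M11Data
import Cfsg.Agent.H69.M11.Eleven

/-!
Kernel checks: the Mathieu generators permute 165 lines as the permutation model permutes 3-sets.
-/

set_option autoImplicit false
set_option Elab.async false
set_option maxRecDepth 100000

namespace Cfsg.Agent.H37.ONSub.M11

open Cfsg.Agent.H5.ON Cfsg.Agent.H37.ONSub

theorem chkA : chk mats w0 matA = true := by decide +kernel

theorem chkB : chk mats w1 matB = true := by decide +kernel

theorem chkS : chk [matA, matB] wS matS = true := by decide +kernel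

theorem chkT : chk [matA, matB] wT matT = true := by decide +kernel

theorem chkU : chk [matA, matB] wU matU = true := by decide +kernel

theorem linesS : lineCheck matS vs sS cS 165 = true := by decide +kernel

theorem linesT : lineCheck matT vs sT cT 165 = true := by decide +kernel

theorem linesU : lineCheck matU vs sU cU 165 = true := by decide +kernel

theorem span_ok : spanCheck vs basis matQ star coords 165 = true := by decide +kernel

/-- membership of a point in a 3-set -/
def inSet (i : ℕ) (x : Fin 11) : Bool := (at2 sets i).testBit (x : ℕ)

/-- the permutation `m` carries the 3-sets along the table `sg` -/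
def setCheck (m : Equiv.Perm (Fin 11)) (sg : List (List ℕ)) : Bool :=
  (List.range 165).all fun i => (List.finRange 11).all fun x =>
    inSet i x == inSet (at2 sg i) (m.symm x)

theorem setsS : setCheck Cfsg.Agent.H69.M11.Eleven.shift sS = true := by decide +kernel

theorem setsT : setCheck Cfsg.Agent.H69.M11.Eleven.triple sT = true := by decide +kernel

theorem setsU : setCheck Cfsg.Agent.H69.M11.Eleven.u1 sU = true := by decide +kernel

theorem sets_increasing : ((List.range 164).all fun k => decide (at2 sets k < at2 sets (k + 1))) &&
    ((List.range 165).all fun k => decide (at2 sets k < 2048)) = true := by decide +kernel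

end Cfsg.Agent.H37.ONSub.M11
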