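import Cfsg.Agent.H37.ONSub.Words
import Cfsg.Agent.H37.ONSub.M11Check
import Cfsg.Agent.H69.M11.Unique
import Cfsg.Agent.Golay.Mathieu
import Cfsg.Prelude.Def_Sporadic

/-!
A subgroup of the presented O'Nan group isomorphic to the Mathieu group of degree 11.
-/

set_option autoImplicit false
set_option maxRecDepth 100000

namespace Cfsg.Agent.H37.ONSub.M11

open Cfsg.Agent.H5.ON Cfsg.Agent.H37.ONSub

attribute [local irreducible] U evU

/-- the permutation model generators -/
def ms : Fin 3 → Equiv.Perm (Fin 11) :=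
  ![Cfsg.Agent.H69.M11.Eleven.shift, Cfsg.Agent.H69.M11.Eleven.triple, Cfsg.Agent.H69.M11.Eleven.u1]

/-- the lifted generators -/
noncomputable def xs : Fin 3 → GL45 :=
  ![pairW (evU w0) (evU w1) wS, pairW (evU w0) (evU w1) wT, pairW (evU w0) (evU w1) wU]

theorem letters : (∀ l ∈ w0, l < 8) ∧ (∀ l ∈ w1, l < 8) ∧ (∀ l ∈ wS, l < 2) ∧ (∀ l ∈ wT, l < 2) ∧
    (∀ l ∈ wU, l < 2) := by decide

theorem valA : (evU w0 : Matrix (Fin 45) (Fin 45) (ZMod 7)) = mat 45 matA := val_word letters.1 chkA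

theorem valB : (evU w1 : Matrix (Fin 45) (Fin 45) (ZMod 7)) = mat 45 matB := val_word letters.2.1 chkB

theorem xs_mem (a : Fin 3) : QuotientGroup.mk' (Subgroup.center GL45) (xs a) ∈ proj.range := by
  fin_cases a <;>
    exact pairW_mem (G := GL45) proj (evU_mem_range w0 letters.1) (evU_mem_range w1 letters.2.1) _

/-- the lines in the 45-dimensional space -/
def v (i : Fin 165) : Fin 45 → ZMod 7 := vec (at2 vs (i : ℕ))

/-- the relation given by the 3-sets -/
def R (m : Equiv.Perm (Fin 11)) (i j : Fin 165) : Prop :=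
  ∀ x : Fin 11, inSet (i : ℕ) x = inSet (j : ℕ) (m⁻¹ x)

theorem equi_of {g : List ℕ} {sg cs : List (List ℕ)} (x : GL45) (m : Equiv.Perm (Fin 11))
    (hx : (x : Matrix (Fin 45) (Fin 45) (ZMod 7)) = mat 45 g)
    (hl : lineCheck g vs sg cs 165 = true) (hc : setCheck m sg = true) : Equi v R (x, m) := by
  intro i
  obtain ⟨h1, h2⟩ := lineCheck_sound hl (i : ℕ) i.isLt
  rw [← hx] at h2
  refine ⟨⟨_, h1⟩, (at2 cs (i : ℕ) : ZMod 7), ?_, fun y => ?_⟩
  · simp only [v]; exact h2
  · simp only [setCheck, List.all_eq_true, beq_iff_eq] at hc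
    exact hc (i : ℕ) (List.mem_range.mpr i.isLt) y (List.mem_finRange y)

theorem equi : ∀ a : Fin 3, Equi v R (xs a, ms a) := by
  intro a
  fin_cases a
  · exact equi_of _ _ (val_sub valA valB letters.2.2.1 chkS) linesS setsS
  · exact equi_of _ _ (val_sub valA valB letters.2.2.2.1 chkT) linesT setsT
  · exact equi_of _ _ (val_sub valA valB letters.2.2.2.2 chkU) linesU setsU

theorem sets_inj {i j : Fin 165} (h : ∀ x : Fin 11, inSet (i : ℕ) x = inSet (j : ℕ) x) : i = j := by
  have hs := sets_increasing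
  simp only [Bool.and_eq_true, List.all_eq_true, List.mem_range, decide_eq_true_eq] at hs
  have hcode : at2 sets (i : ℕ) = at2 sets (j : ℕ) := by
    refine Nat.eq_of_testBit_eq fun k => ?_
    rcases Nat.lt_or_ge k 11 with hk | hk
    · exact h ⟨k, hk⟩
    · have h2 : 2048 ≤ 2 ^ k := le_trans (by norm_num) (Nat.pow_le_pow_right (by norm_num) hk)
      rw [Nat.testBit_eq_false_of_lt ((hs.2 _ i.isLt).trans_le h2),
        Nat.testBit_eq_false_of_lt ((hs.2 _ j.isLt).trans_le h2)]
  have hmono : ∀ a b, a < b → b < 165 → at2 sets a < at2 sets b := by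
    intro a b hab hb
    induction b with
    | zero => omega
    | succ b ih =>
      have := hs.1 b (by omega)
      rcases Nat.lt_or_ge a b with h' | h'
      · exact (ih h' (by omega)).trans this
      · obtain rfl : a = b := by omega
        exact this
  apply Fin.ext
  rcases lt_trichotomy (i : ℕ) (j : ℕ) with h' | h' | h'
  · have := hmono _ _ h' j.isLt; omega
  · exact h'
  · have := hmono _ _ h' i.isLt; omega

theorem range_ms : Subgroup.closure (Set.range ms) = Cfsg.Agent.H69.M11.standard := by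
  unfold Cfsg.Agent.H69.M11.standard
  refine congrArg Subgroup.closure (Set.ext fun g => ?_)
  simp only [Set.mem_range, Fin.exists_fin_succ, Set.mem_insert_iff, Set.mem_singleton_iff, ms,
    Matrix.cons_val_zero, Matrix.cons_val_succ, IsEmpty.exists_iff, or_false, eq_comm (b := g)]

theorem exists_hom_M11 : ∃ f : Cfsg.Agent.H69.M11.standard →* PGL45,
    ∀ a (h : ms a ∈ Cfsg.Agent.H69.M11.standard),
      f ⟨ms a, h⟩ = QuotientGroup.mk' (Subgroup.center GL45) (xs a) := by
  have : Fact (Nat.Prime 7) := ⟨by norm_num⟩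
  obtain ⟨b, s, Q, hQ, hs⟩ := spanCheck_sound span_ok
  refine exists_hom (K := ZMod 7) (v := v) (R := R) (fun i x => by simp) ?_ ?_
    Cfsg.Agent.H69.M11.standard ms xs range_ms.symm equi fun g hg => center_of_lines (v := v) b Q hQ s hs g hg
  · intro i j h
    exact sets_inj fun x => by simpa using h x
  · intro m n i j k h1 h2 x
    rw [h1 x, h2 (m⁻¹ x), mul_inv_rev]
    rfl

theorem isM11_standard : Cfsg.IsM11 Cfsg.Agent.H69.M11.standard := by
  obtain ⟨e⟩ := Cfsg.Agent.H69.M11.nonempty_standard Cfsg.Agent.Golay.isM11_spor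
  have hs := Cfsg.Agent.Golay.isM11_spor.1
  exact ⟨e.isSimpleGroup_congr.mp hs, (Nat.card_congr e.toEquiv).symm.trans Cfsg.Agent.Golay.isM11_spor.2⟩

theorem exists_subgroup (hinj : Function.Injective proj) :
    ∃ K : Subgroup Cfsg.Spor.ON, Cfsg.IsM11 K := by
  obtain ⟨f, hf⟩ := exists_hom_M11
  have hsimple := isM11_standard.1
  have hmem : ∀ a, ms a ∈ Cfsg.Agent.H69.M11.standard := fun a =>
    range_ms ▸ Subgroup.subset_closure ⟨a, rfl⟩
  have hgen : Subgroup.closure (Set.range fun a => (⟨ms a, hmem a⟩ : Cfsg.Agent.H69.M11.standard)) = ⊤ := by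
    refine (Subgroup.map_injective Cfsg.Agent.H69.M11.standard.subtype_injective) ?_
    rw [MonoidHom.map_closure, ← MonoidHom.range_eq_map, Subgroup.range_subtype, ← Set.range_comp]
    exact range_ms
  have hne : ∃ i j : Fin 45, i ≠ j ∧ mat 45 matS i j ≠ 0 := by
    refine ⟨⟨0, by norm_num⟩, ⟨1, by norm_num⟩, by decide, ?_⟩
    decide +kernel
  obtain ⟨i, j, hij, hne⟩ := hne
  obtain ⟨K, ⟨e⟩⟩ := exists_embedding_aux proj hinj f
    (fun a => (⟨ms a, hmem a⟩ : Cfsg.Agent.H69.M11.standard)) hgen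
    (fun a => (hf a (hmem a)).symm ▸ xs_mem a) 0 (by
      rw [hf 0 (hmem 0)]
      intro h
      refine not_central_of_entry (xs 0) i j hij ?_ ((QuotientGroup.eq_one_iff _).mp h)
      rw [show (xs 0 : Matrix (Fin 45) (Fin 45) (ZMod 7)) = mat 45 matS from
        val_sub valA valB letters.2.2.1 chkS]
      exact hne)
  exact ⟨K, e.isSimpleGroup_congr.mp hsimple, (Nat.card_congr e.toEquiv).symm.trans isM11_standard.2⟩

end Cfsg.Agent.H37.ONSub.M11
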