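import Cfsg.Agent.H37.ONSub.Model
import Cfsg.Agent.H37.ONSub.J1Gens
import Cfsg.Agent.H37.ONSub.J1Lines
import Cfsg.Agent.H37.ONSub.J1Model

/-!
Kernel checks: the Janko generators permute 1540 lines in both representations in the same way.
-/

set_option autoImplicit false
set_option Elab.async false
set_option maxRecDepth 100000

namespace Cfsg.Agent.H37.ONSub.J1

open Cfsg.Agent.H37.ONSub

theorem linesX : lineCheck matX vs sX cX 1540 = true := by decide +kernel

theorem linesY : lineCheck matY vs sY cY 1540 = true := by decide +kernel

theorem span_ok : spanCheck vs basis matQ star coords 1540 = true := by decide +kernel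

theorem modelX : modelCheck colsX ps sX dX 1540 = true := by decide +kernel

theorem modelY : modelCheck colsY ps sY dY 1540 = true := by decide +kernel

theorem distinct_ok : distinctCheck ps keys rk 1540 = true := by decide +kernel

end Cfsg.Agent.H37.ONSub.J1
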