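import Cfsg.Agent.H5.ON.Check
import Cfsg.Agent.H37.ONSub.J1Gens

/-!
Kernel checks: the matrices of the Janko generators are the values of their words.
-/

set_option autoImplicit false
set_option Elab.async false
set_option maxRecDepth 100000

namespace Cfsg.Agent.H37.ONSub.J1

open Cfsg.Agent.H5.ON

theorem chkA : chk mats w0 matA = true := by decide +kernel

theorem chkB : chk mats w1 matB = true := by decide +kernel

theorem chkX : chk [matA, matB] wx matX = true := by decide +kernel

theorem chkY : chk [matA, matB] wy matY = true := by decide +kernel

end Cfsg.Agent.H37.ONSub.J1
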