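import Cfsg.Agent.H37.ONSub.Words
import Cfsg.Agent.H37.ONSub.J1Words
import Cfsg.Agent.H37.ONSub.J1Check
import Cfsg.Agent.Compute.J1.Basic
import Cfsg.Prelude.Def_Sporadic

/-!
A subgroup of the presented O'Nan group isomorphic to the smallest Janko group.
-/

set_option autoImplicit false
set_option maxRecDepth 100000

namespace Cfsg.Agent.H37.ONSub.J1

open Cfsg.Agent.H5.ON Cfsg.Agent.H37.ONSub

attribute [local irreducible] U evU

/-- the lifted generators -/
noncomputable def xs : Bool → GL45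
  | false => pairW (evU w0) (evU w1) wx
  | true => pairW (evU w0) (evU w1) wy

/-- the model generators -/
def ms : Bool → GL (Fin 7) (ZMod 11)
  | false => Cfsg.Spor.jankoX
  | true => Cfsg.Spor.jankoY

theorem letters : (∀ l ∈ w0, l < 8) ∧ (∀ l ∈ w1, l < 8) ∧ (∀ l ∈ wx, l < 2) ∧ (∀ l ∈ wy, l < 2) := by decide

theorem val_xs : (xs false : Matrix (Fin 45) (Fin 45) (ZMod 7)) = mat 45 matX ∧
    (xs true : Matrix (Fin 45) (Fin 45) (ZMod 7)) = mat 45 matY :=
  ⟨val_sub (val_word letters.1 chkA) (val_word letters.2.1 chkB) letters.2.2.1 chkX,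
    val_sub (val_word letters.1 chkA) (val_word letters.2.1 chkB) letters.2.2.2 chkY⟩

theorem xs_mem (a : Bool) : QuotientGroup.mk' (Subgroup.center GL45) (xs a) ∈ proj.range := by
  cases a <;> exact pairW_mem (G := GL45) proj (evU_mem_range w0 letters.1) (evU_mem_range w1 letters.2.1) _

theorem colMat_X : colMat colsX = Cfsg.jankoMatrixX := by decide +kernel

theorem colMat_Y : colMat colsY = Cfsg.jankoMatrixY := by decide +kernel

/-- the lines in the 45-dimensional space -/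
def v (i : Fin 1540) : Fin 45 → ZMod 7 := vec (at2 vs (i : ℕ))

/-- the relation given by the lines of the model -/
def R (m : GL (Fin 7) (ZMod 11)) (i j : Fin 1540) : Prop :=
  ∃ d : ZMod 11, Matrix.vecMul (vec7 (at2 ps (i : ℕ))) (m : Matrix (Fin 7) (Fin 7) (ZMod 11)) =
    d • vec7 (at2 ps (j : ℕ))

theorem val_ms : (ms false : Matrix (Fin 7) (Fin 7) (ZMod 11)) = colMat colsX ∧
    (ms true : Matrix (Fin 7) (Fin 7) (ZMod 11)) = colMat colsY :=
  ⟨colMat_X.symm, colMat_Y.symm⟩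

theorem equi_of {g : List ℕ} {cols : List ℕ} {sg cs ds : List (List ℕ)} (x : GL45) (m : GL (Fin 7) (ZMod 11))
    (hx : (x : Matrix (Fin 45) (Fin 45) (ZMod 7)) = mat 45 g)
    (hm : (m : Matrix (Fin 7) (Fin 7) (ZMod 11)) = colMat cols)
    (hl : lineCheck g vs sg cs 1540 = true) (hc : modelCheck cols ps sg ds 1540 = true) :
    Equi v R (x, m) := by
  intro i
  obtain ⟨h1, h2⟩ := lineCheck_sound hl (i : ℕ) i.isLt
  have h3 := modelCheck_sound hc (i : ℕ) i.isLt
  rw [← hx] at h2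
  rw [← hm] at h3
  refine ⟨⟨_, h1⟩, (at2 cs (i : ℕ) : ZMod 7), ?_, (at2 ds (i : ℕ) : ZMod 11), ?_⟩
  · simp only [v]; exact h2
  · exact h3

theorem equi : ∀ a : Bool, Equi v R (xs a, ms a)
  | false => equi_of (xs false) (ms false) val_xs.1 val_ms.1 linesX modelX
  | true => equi_of (xs true) (ms true) val_xs.2 val_ms.2 linesY modelY

theorem offdiag : ∃ i j : Fin 45, i ≠ j ∧ mat 45 matX i j ≠ 0 := by
  refine ⟨⟨0, by norm_num⟩, ⟨1, by norm_num⟩, by decide, ?_⟩
  decide +kernel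

theorem range_ms : Set.range ms = {Cfsg.Spor.jankoX, Cfsg.Spor.jankoY} := by
  ext g
  constructor
  · rintro ⟨a, rfl⟩
    cases a
    · exact Or.inl rfl
    · exact Or.inr rfl
  · rintro (rfl | rfl)
    · exact ⟨false, rfl⟩
    · exact ⟨true, rfl⟩

theorem exists_hom_J1 : ∃ f : Cfsg.Spor.J1 →* PGL45, ∀ a (h : ms a ∈ Cfsg.Spor.J1),
    f ⟨ms a, h⟩ = QuotientGroup.mk' (Subgroup.center GL45) (xs a) := by
  have : Fact (Nat.Prime 7) := ⟨by norm_num⟩
  obtain ⟨b, s, Q, hQ, hs⟩ := spanCheck_sound span_ok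
  refine exists_hom (K := ZMod 7) (v := v) (R := R) (fun i => ⟨1, by simp⟩) ?_ ?_ Cfsg.Spor.J1 ms xs
    (by rw [range_ms]; rfl) equi fun g hg => center_of_lines (v := v) b Q hQ s hs g hg
  · rintro i j ⟨d, hd⟩
    rw [Units.val_one, Matrix.vecMul_one] at hd
    exact Fin.ext (distinctCheck_sound distinct_ok i.isLt j.isLt hd)
  · rintro m n i j k ⟨c, hc⟩ ⟨d, hd⟩
    refine ⟨c * d, ?_⟩
    rw [Units.val_mul, ← Matrix.vecMul_vecMul, hc, Matrix.smul_vecMul, hd, smul_smul]

theorem exists_subgroup (hinj : Function.Injective proj) :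
    ∃ K : Subgroup Cfsg.Spor.ON, Cfsg.IsJ1 K := by
  have : Fact (Nat.Prime 7) := ⟨by norm_num⟩
  obtain ⟨f, hf⟩ := exists_hom_J1
  have := Cfsg.Agent.Compute.J1.isSimple_J1
  have hmem : ∀ a, ms a ∈ Cfsg.Spor.J1 := fun a => Subgroup.subset_closure (range_ms ▸ ⟨a, rfl⟩)
  have hgen : Subgroup.closure (Set.range fun a => (⟨ms a, hmem a⟩ : Cfsg.Spor.J1)) = ⊤ := by
    refine (Subgroup.map_injective Cfsg.Spor.J1.subtype_injective) ?_
    rw [MonoidHom.map_closure, ← MonoidHom.range_eq_map, Subgroup.range_subtype, ← Set.range_comp]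
    show Subgroup.closure (Set.range ms) = Cfsg.Spor.J1
    rw [range_ms]; rfl
  obtain ⟨i, j, hij, hne⟩ := offdiag
  obtain ⟨K, ⟨e⟩⟩ := exists_embedding_aux proj hinj f (fun a => (⟨ms a, hmem a⟩ : Cfsg.Spor.J1)) hgen
    (fun a => (hf a (hmem a)).symm ▸ xs_mem a) false (by
      rw [hf false (hmem false)]
      intro h
      exact not_central_of_entry (xs false) i j hij (by rw [val_xs.1]; exact hne)
        ((QuotientGroup.eq_one_iff _).mp h))
  exact ⟨K, e.isSimpleGroup_congr.mp inferInstance,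
    (Nat.card_congr e.toEquiv).symm.trans Cfsg.Agent.Compute.J1.card_J1⟩

end Cfsg.Agent.H37.ONSub.J1
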