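import Mathlib

/-!
A homomorphism into the projective linear group from equally permuted families of lines.
-/

set_option autoImplicit false

namespace Cfsg.Agent.H37.ONSub

open Matrix

variable {K : Type*} [CommRing K] [Finite K] {k N : ℕ} {H : Type*} [Group H] {ι : Type*}

/-- `g` moves every line `v i` to a line `v j` and `m` relates `i` to `j` -/
def Equi (v : Fin N → Fin k → K) (R : H → Fin N → Fin N → Prop) (p : GL (Fin k) K × H) : Prop :=
  ∀ i, ∃ (j : Fin N) (c : K), Matrix.vecMul (v i) (p.1 : Matrix (Fin k) (Fin k) K) = c • v j ∧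
    R p.2 i j

variable {v : Fin N → Fin k → K} {R : H → Fin N → Fin N → Prop}

theorem equi_of_mem_closure [Finite H] (hrefl : ∀ i, R 1 i i)
    (hmul : ∀ m n i j k, R m i j → R n j k → R (m * n) i k) {S : Set (GL (Fin k) K × H)}
    (hS : ∀ p ∈ S, Equi v R p) {p : GL (Fin k) K × H} (hp : p ∈ Subgroup.closure S) : Equi v R p := by
  rw [← Subgroup.mem_toSubmonoid, Subgroup.closure_toSubmonoid_of_finite] at hp
  induction hp using Submonoid.closure_induction with
  | mem x hx => exact hS x hx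
  | one => exact fun i => ⟨i, 1, by simp, hrefl i⟩
  | mul x y _ _ hx hy =>
    intro i
    obtain ⟨j, c, h1, h1'⟩ := hx i
    obtain ⟨k, d, h2, h2'⟩ := hy j
    refine ⟨k, c * d, ?_, hmul _ _ _ _ _ h1' h2'⟩
    rw [Prod.fst_mul, Units.val_mul, ← Matrix.vecMul_vecMul, h1, Matrix.smul_vecMul, h2, smul_smul]

theorem exists_hom_aux {G : Type*} [Group G] (Z : Subgroup G) [Z.Normal] (M : Subgroup H) (ms : ι → H)
    (xs : ι → G) (hM : M = Subgroup.closure (Set.range ms))
    (hker : ∀ p ∈ Subgroup.closure (Set.range fun a => (xs a, ms a)), p.2 = 1 → p.1 ∈ Z) :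
    ∃ f : M →* G ⧸ Z, ∀ a (h : ms a ∈ M), f ⟨ms a, h⟩ = QuotientGroup.mk' Z (xs a) := by
  classical
  set Γ : Subgroup (G × H) := Subgroup.closure (Set.range fun a => (xs a, ms a)) with hΓ
  have hsnd : Γ.map (MonoidHom.snd G H) = M := by
    rw [hΓ, MonoidHom.map_closure, ← Set.range_comp]
    exact hM.symm
  have hmem : ∀ p : Γ, (p : G × H).2 ∈ M := fun p => hsnd ▸ ⟨p, p.2, rfl⟩
  let π : Γ →* M := ((MonoidHom.snd G H).comp Γ.subtype).codRestrict M hmem
  have hπ : Function.Surjective π := by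
    rintro ⟨m, hm⟩
    rw [← hsnd] at hm
    obtain ⟨p, hp, rfl⟩ := hm
    exact ⟨⟨p, hp⟩, rfl⟩
  let ρ : Γ →* G ⧸ Z := (QuotientGroup.mk' Z).comp ((MonoidHom.fst G H).comp Γ.subtype)
  have hle : π.ker ≤ ρ.ker := by
    intro p hp
    simp only [MonoidHom.mem_ker] at hp ⊢
    exact (QuotientGroup.eq_one_iff _).mpr (hker _ p.2 (congrArg Subtype.val hp))
  refine ⟨π.liftOfSurjective hπ ⟨ρ, hle⟩, fun a h => ?_⟩
  exact π.liftOfRightInverse_comp_apply _ (Function.rightInverse_surjInv hπ) ⟨ρ, hle⟩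
    ⟨(xs a, ms a), Subgroup.subset_closure ⟨a, rfl⟩⟩

/-- equivariance on generators gives a homomorphism from the second group -/
theorem exists_hom [Finite H] (hrefl : ∀ i, R 1 i i) (hone : ∀ i j, R 1 i j → i = j)
    (hmul : ∀ m n i j k, R m i j → R n j k → R (m * n) i k) (M : Subgroup H) (ms : ι → H) (xs : ι → GL (Fin k) K)
    (hM : M = Subgroup.closure (Set.range ms)) (hgen : ∀ a, Equi v R (xs a, ms a))
    (hscal : ∀ g : GL (Fin k) K, (∀ i, ∃ c : K,
      Matrix.vecMul (v i) (g : Matrix (Fin k) (Fin k) K) = c • v i) → g ∈ Subgroup.center (GL (Fin k) K)) :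
    ∃ f : M →* GL (Fin k) K ⧸ Subgroup.center (GL (Fin k) K),
      ∀ a (h : ms a ∈ M), f ⟨ms a, h⟩ = QuotientGroup.mk' (Subgroup.center (GL (Fin k) K)) (xs a) := by
  refine exists_hom_aux (G := GL (Fin k) K) (Subgroup.center (GL (Fin k) K)) M ms xs hM fun p hp h1 => hscal _ fun i => ?_
  obtain ⟨j, c, hc, hR⟩ := equi_of_mem_closure hrefl hmul (S := Set.range fun a => (xs a, ms a))
    (Set.forall_mem_range.mpr hgen) hp i
  rw [h1] at hR
  exact ⟨c, by rw [hc, hone _ _ hR]⟩

/-- a connected spanning family of lines is fixed only by scalars -/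
theorem center_of_lines [IsDomain K] (B : Fin k → Fin N) (Q : Matrix (Fin k) (Fin k) K)
    (hQ : Matrix.of (fun l => v (B l)) * Q = 1) (s : Fin N)
    (ha : ∀ l, Matrix.vecMul (v s) Q l ≠ 0) (g : GL (Fin k) K)
    (hg : ∀ i, ∃ c : K, Matrix.vecMul (v i) (g : Matrix (Fin k) (Fin k) K) = c • v i) :
    g ∈ Subgroup.center (GL (Fin k) K) := by
  choose c hc using hg
  set P : Matrix (Fin k) (Fin k) K := Matrix.of fun l => v (B l) with hP
  set a := Matrix.vecMul (v s) Q with hadef
  have hQP : Q * P = 1 := mul_eq_one_comm.mp hQ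
  have hPg : P * (g : Matrix (Fin k) (Fin k) K) = Matrix.diagonal (fun l => c (B l)) * P := by
    ext l j
    have h := congrFun (hc (B l)) j
    rw [Matrix.mul_apply_eq_vecMul, Matrix.diagonal_mul]
    exact h
  have hvs : Matrix.vecMul a P = v s := by rw [hadef, Matrix.vecMul_vecMul, hQP, Matrix.vecMul_one]
  have hcst : ∀ l, c (B l) = c s := by
    intro l
    have h1 : Matrix.vecMul (v s) ((g : Matrix (Fin k) (Fin k) K) * Q) = c s • a := by
      rw [← Matrix.vecMul_vecMul, hc, Matrix.smul_vecMul]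
    rw [← hvs, Matrix.vecMul_vecMul, ← mul_assoc, hPg, mul_assoc, hQ, mul_one] at h1
    have h2 := congrFun h1 l
    rw [Matrix.vecMul_diagonal, Pi.smul_apply, smul_eq_mul, mul_comm (c s)] at h2
    exact mul_left_cancel₀ (ha l) h2
  have hg1 : (g : Matrix (Fin k) (Fin k) K) = c s • 1 := by
    calc (g : Matrix (Fin k) (Fin k) K) = Q * (P * g) := by rw [← mul_assoc, hQP, one_mul]
      _ = Q * (c s • P) := by
        rw [hPg, show (fun l => c (B l)) = fun _ => c s from funext hcst, ← Matrix.smul_eq_diagonal_mul]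
      _ = c s • 1 := by rw [Matrix.mul_smul, hQP]
  rw [Subgroup.mem_center_iff]
  intro h
  apply Units.ext
  rw [Units.val_mul, Units.val_mul, hg1, Matrix.smul_mul, Matrix.mul_smul, one_mul, mul_one]

end Cfsg.Agent.H37.ONSub
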