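import Cfsg.Agent.H37.ONSub.Packed

/-!
Kernel checks on lines in a seven-dimensional space over the field with 11 elements.
-/

set_option autoImplicit false

namespace Cfsg.Agent.H37.ONSub

open Cfsg.Agent.H5.ON
open Cfsg.Agent.H45 (force force_eq)

/-- the vector of seven digits -/
def vec7 (d : ℕ) : Fin 7 → ZMod 11 := fun j => (dg d (j : ℕ) : ZMod 11)

/-- pairing of seven digits -/
def dot7 (a b : ℕ) : ℕ :=
  dg a 0 * dg b 0 + dg a 1 * dg b 1 + dg a 2 * dg b 2 + dg a 3 * dg b 3 + dg a 4 * dg b 4 + dg a 5 * dg b 5 +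
    dg a 6 * dg b 6

/-- the matrix with the given columns -/
def colMat (cols : List ℕ) : Matrix (Fin 7) (Fin 7) (ZMod 11) :=
  Matrix.of fun i j => (dg (cols.getD (j : ℕ) 0) (i : ℕ) : ZMod 11)

/-- lines of the table `T` move under the matrix with columns `cols` by `sg` with multipliers `ds` -/
noncomputable def modelCheck (cols : List ℕ) (T sg ds : List (List ℕ)) (n : ℕ) : Bool :=
  allBelow n 0 fun i => force (at2 T i) fun p => force (at2 ds i) fun d => force (at2 T (at2 sg i)) fun q =>
    allBelow 7 0 fun j => Nat.beq (dot7 p (cols.getD j 0) % 11) (d * dg q j % 11)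

theorem modelCheck_sound {cols : List ℕ} {T sg ds : List (List ℕ)} {n : ℕ}
    (h : modelCheck cols T sg ds n = true) (i : ℕ) (hi : i < n) :
    Matrix.vecMul (vec7 (at2 T i)) (colMat cols) = (at2 ds i : ZMod 11) • vec7 (at2 T (at2 sg i)) := by
  have h1 := allBelow_sound _ _ _ h i hi
  simp only [zero_add, force_eq] at h1
  funext j
  have h2 := allBelow_sound _ _ _ h1 (j : ℕ) j.isLt
  simp only [zero_add, Nat.beq_eq] at h2
  have h3 := congrArg (fun n : ℕ => (n : ZMod 11)) h2
  simp only [ZMod.natCast_mod, Nat.cast_mul, dot7, Nat.cast_add] at h3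
  simpa [Matrix.vecMul, dotProduct, vec7, colMat, Fin.sum_univ_seven] using h3

/-- a seven digit number whose first nonzero digit is one -/
noncomputable def normed (p : ℕ) : Bool :=
  Nat.blt p 268435456 && (allBelow 7 0 fun j => Nat.blt (dg p j) 11) &&
    (List.range 7).any fun k => Nat.beq (dg p k) 1 && (List.range k).all fun j => Nat.beq (dg p j) 0

/-- distinct normed codes, shown by the sorted list `keys` and the ranks `rk` -/
noncomputable def distinctCheck (T keys rk : List (List ℕ)) (n : ℕ) : Bool :=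
  (allBelow n 0 fun i => normed (at2 T i) && Nat.blt (at2 rk i) n &&
      Nat.beq (at2 keys (at2 rk i)) (at2 T i * 2048 + i)) &&
    Nat.blt n 2049 && allBelow (n - 1) 0 fun k => Nat.blt (at2 keys k / 2048) (at2 keys (k + 1) / 2048)

theorem eq_of_digits {p q : ℕ} (hp : p < 268435456) (hq : q < 268435456) (h : ∀ j, j < 7 → dg p j = dg q j) :
    p = q := by
  have e : ∀ k j : ℕ, dg k j = k / 2 ^ (4 * j) % 16 := by
    intro k j
    rw [dg, Nat.shiftRight_eq_div_pow, show (15 : ℕ) = 2 ^ 4 - 1 by norm_num, Nat.and_two_pow_sub_one_eq_mod]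
  have h0 := h 0 (by norm_num)
  have h1 := h 1 (by norm_num)
  have h2 := h 2 (by norm_num)
  have h3 := h 3 (by norm_num)
  have h4 := h 4 (by norm_num)
  have h5 := h 5 (by norm_num)
  have h6 := h 6 (by norm_num)
  simp only [e] at h0 h1 h2 h3 h4 h5 h6
  omega

theorem eq_of_prop {p q : ℕ} (hp : normed p = true) (hq : normed q = true) {d : ZMod 11}
    (h : vec7 p = d • vec7 q) : p = q := by
  haveI : Fact (Nat.Prime 11) := ⟨by norm_num⟩
  simp only [normed, Bool.and_eq_true, Nat.blt_eq, List.any_eq_true, List.all_eq_true, List.mem_range,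
    Nat.beq_eq] at hp hq
  obtain ⟨⟨hp0, hp1⟩, k, hk, hpk, hpz⟩ := hp
  obtain ⟨⟨hq0, hq1⟩, l, hl, hql, hqz⟩ := hq
  have hd : ∀ j, j < 7 → (dg p j : ZMod 11) = d * (dg q j : ZMod 11) := fun j hj => congrFun h ⟨j, hj⟩
  rcases lt_trichotomy k l with h' | rfl | h'
  · have := hd k hk
    rw [hpk, hqz k h', Nat.cast_one, Nat.cast_zero, mul_zero] at this
    exact absurd this one_ne_zero
  · have := hd k hk
    rw [hpk, hql, Nat.cast_one, mul_one] at this
    subst this
    refine eq_of_digits hp0 hq0 fun j hj => ?_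
    have h2 := hd j hj
    rw [one_mul, ZMod.natCast_eq_natCast_iff'] at h2
    have a1 := allBelow_sound _ _ _ hp1 j hj
    have a2 := allBelow_sound _ _ _ hq1 j hj
    simp only [zero_add, Nat.blt_eq] at a1 a2
    rwa [Nat.mod_eq_of_lt a1, Nat.mod_eq_of_lt a2] at h2
  · have h0 := hd l hl
    rw [hql, hpz l h', Nat.cast_one, Nat.cast_zero, mul_one] at h0
    have := hd k hk
    rw [hpk, ← h0, zero_mul, Nat.cast_one] at this
    exact absurd this one_ne_zero

theorem distinctCheck_sound {T keys rk : List (List ℕ)} {n : ℕ} (h : distinctCheck T keys rk n = true)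
    {i j : ℕ} (hi : i < n) (hj : j < n) {d : ZMod 11} (he : vec7 (at2 T i) = d • vec7 (at2 T j)) : i = j := by
  simp only [distinctCheck, Bool.and_eq_true, Nat.blt_eq] at h
  obtain ⟨⟨h1, hn⟩, h2⟩ := h
  have g : ∀ i, i < n → normed (at2 T i) = true ∧ at2 rk i < n ∧ at2 keys (at2 rk i) = at2 T i * 2048 + i := by
    intro i hi
    have := allBelow_sound _ _ _ h1 i hi
    simp only [zero_add, Bool.and_eq_true, Nat.blt_eq, Nat.beq_eq] at this
    exact ⟨this.1.1, this.1.2, this.2⟩
  have hmono : ∀ a b, a < b → b < n → at2 keys a / 2048 < at2 keys b / 2048 := by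
    intro a b hab hb
    induction b with
    | zero => omega
    | succ b ih =>
      have := allBelow_sound _ _ _ h2 b (by omega)
      simp only [zero_add, Nat.blt_eq] at this
      rcases Nat.lt_or_ge a b with h' | h'
      · exact (ih h' (by omega)).trans this
      · obtain rfl : a = b := by omega
        exact this
  obtain ⟨ni, ri, ki⟩ := g i hi
  obtain ⟨nj, rj, kj⟩ := g j hj
  have hc := eq_of_prop ni nj he
  rw [← hc] at kj
  rcases lt_trichotomy (at2 rk i) (at2 rk j) with h' | h' | h'
  · have := hmono _ _ h' rj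
    omega
  · rw [h'] at ki
    omega
  · have := hmono _ _ h' ri
    omega

end Cfsg.Agent.H37.ONSub
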