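import Cfsg.Agent.H37.ONSub.Lines
import Cfsg.Agent.H5.ON.Rep

/-!
Words in the presented O'Nan group and pulling back embeddings along the projective representation.
-/

set_option autoImplicit false
set_option maxRecDepth 10000

namespace Cfsg.Agent.H37.ONSub

open Cfsg.Agent.H5.ON

theorem exists_proj_U : ∀ l : ℕ, l < 8 → ∃ x : Cfsg.Spor.ON, proj x = QuotientGroup.mk' (Subgroup.center GL45) (U l) := by
  have key : ∀ x : Cfsg.Spor.ON.Gen,
      proj (PresentedGroup.of x) = QuotientGroup.mk' (Subgroup.center GL45) (U (ix x)) := fun x => proj_of x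
  intro l hl
  interval_cases l
  · exact ⟨_, key .a⟩
  · exact ⟨_, key .b⟩
  · exact ⟨_, key .c⟩
  · exact ⟨_, key .d⟩
  · exact ⟨_, key .e⟩
  · exact ⟨_, key .f⟩
  · exact ⟨_, key .g⟩
  · refine ⟨(PresentedGroup.of Cfsg.Spor.ON.Gen.g)⁻¹, ?_⟩
    rw [map_inv, key, ← map_inv]
    exact congrArg _ (U_inv (l := 6) (by norm_num))

theorem range_of_prod {G : Type*} [Group G] {Z : Subgroup G} [Z.Normal] {A : Type*} [Group A] (p : A →* G ⧸ Z) :
    ∀ {us : List G}, (∀ u ∈ us, QuotientGroup.mk' Z u ∈ p.range) → QuotientGroup.mk' Z us.prod ∈ p.range := by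
  intro us h
  rw [map_list_prod]
  exact list_prod_mem (by simpa using h)

/-- the image of a word lies in the image of the group -/
theorem evU_mem_range (w : List ℕ) (hw : ∀ l ∈ w, l < 8) :
    QuotientGroup.mk' (Subgroup.center GL45) (evU w) ∈ proj.range := by
  refine range_of_prod (G := GL45) proj ?_
  intro u hu
  obtain ⟨l, hl, rfl⟩ := List.mem_map.mp hu
  exact exists_proj_U l (hw l hl)

theorem exists_embedding_aux {M : Type*} [Group M] [IsSimpleGroup M] {A P : Type*} [Group A] [Group P]
    (p : A →* P) (hp : Function.Injective p) (f : M →* P) {ι : Type*} (ms : ι → M)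
    (hgen : Subgroup.closure (Set.range ms) = ⊤) (hran : ∀ a, f (ms a) ∈ p.range) (a : ι)
    (hne : f (ms a) ≠ 1) : ∃ K : Subgroup A, Nonempty (M ≃* K) := by
  have hle : f.range ≤ p.range := by
    rw [MonoidHom.range_eq_map, ← hgen, MonoidHom.map_closure, Subgroup.closure_le]
    rintro _ ⟨_, ⟨b, rfl⟩, rfl⟩
    exact hran b
  have hf : Function.Injective f := by
    rcases (MonoidHom.normal_ker f).eq_bot_or_eq_top with h | h
    · exact (MonoidHom.ker_eq_bot_iff f).1 h
    · exact absurd (MonoidHom.mem_ker.1 (show ms a ∈ f.ker by rw [h]; trivial)) hne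
  let φ : M →* A := (MonoidHom.ofInjective hp).symm.toMonoidHom.comp
    ((Subgroup.inclusion hle).comp f.rangeRestrict)
  have hφ : Function.Injective φ := by
    refine (MonoidHom.ofInjective hp).symm.injective.comp ((Subgroup.inclusion_injective hle).comp ?_)
    intro x y h
    exact hf (congrArg Subtype.val h)
  exact ⟨φ.range, ⟨MonoidHom.ofInjective hφ⟩⟩

/-- an entry off the diagonal shows that an element is not central -/
theorem not_central_of_entry {k : ℕ} {K : Type*} [CommRing K] (g : GL (Fin k) K) (i j : Fin k) (hij : i ≠ j)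
    (h : (g : Matrix (Fin k) (Fin k) K) i j ≠ 0) : g ∉ Subgroup.center (GL (Fin k) K) := by
  classical
  intro hg
  rw [Matrix.GeneralLinearGroup.center_eq_range_scalar] at hg
  obtain ⟨c, rfl⟩ := hg
  simp [hij] at h

end Cfsg.Agent.H37.ONSub
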