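import Cfsg.Agent.H37.ONSub.Pull

/-!
Two elements given by words, and elements given by words in those two.
-/

set_option autoImplicit false
set_option maxRecDepth 10000

namespace Cfsg.Agent.H37.ONSub

open Cfsg.Agent.H5.ON

/-- the value of a word in two elements -/
def pairW {G : Type*} [Group G] (a b : G) (w : List ℕ) : G :=
  (w.map fun l => if l = 0 then a else b).prod

theorem pairW_mem {G : Type*} [Group G] {Z : Subgroup G} [Z.Normal] {A : Type*} [Group A] (p : A →* G ⧸ Z) {a b : G}
    (ha : QuotientGroup.mk' Z a ∈ p.range) (hb : QuotientGroup.mk' Z b ∈ p.range) (w : List ℕ) :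
    QuotientGroup.mk' Z (pairW a b w) ∈ p.range := by
  refine range_of_prod p fun u hu => ?_
  obtain ⟨l, -, rfl⟩ := List.mem_map.mp hu
  split_ifs <;> assumption

theorem val_pairW {a b : GL45} {A B : List ℕ} (ha : (a : Matrix (Fin 45) (Fin 45) (ZMod 7)) = mat 45 A)
    (hb : (b : Matrix (Fin 45) (Fin 45) (ZMod 7)) = mat 45 B) :
    ∀ {w : List ℕ}, (∀ l ∈ w, l < 2) →
      ((pairW a b w : GL45) : Matrix (Fin 45) (Fin 45) (ZMod 7)) = ev 45 [A, B] w := by
  intro w
  induction w with
  | nil => intro _; simp [pairW, ev]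
  | cons l w ih =>
    intro h
    have hl : l < 2 := h l List.mem_cons_self
    have ih' := ih fun m hm => h m (List.mem_cons_of_mem _ hm)
    unfold pairW ev at ih' ⊢
    rw [List.map_cons, List.prod_cons, Units.val_mul, List.map_cons, List.prod_cons, ih']
    interval_cases l <;> simp [ha, hb]

theorem val_word {w t : List ℕ} (hw : ∀ l ∈ w, l < 8) (h : chk mats w t = true) :
    (evU w : Matrix (Fin 45) (Fin 45) (ZMod 7)) = mat 45 t := (val_evU hw).trans (chk_sound h)

theorem val_sub {a b : GL45} {A B w t : List ℕ} (ha : (a : Matrix (Fin 45) (Fin 45) (ZMod 7)) = mat 45 A)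
    (hb : (b : Matrix (Fin 45) (Fin 45) (ZMod 7)) = mat 45 B) (hw : ∀ l ∈ w, l < 2)
    (h : chk [A, B] w t = true) : ((pairW a b w : GL45) : Matrix (Fin 45) (Fin 45) (ZMod 7)) = mat 45 t :=
  (val_pairW ha hb hw).trans (chk_sound h)

end Cfsg.Agent.H37.ONSub
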